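import Groth.Agent.L23.LocP
import Groth.Agent.L23.SchemeFacts
import Groth.Agent.L19.Approx.Affine
import Mathlib.AlgebraicGeometry.AffineTransitionLimit

/-!
# Lifting sections along limits of affine schemes
-/

universe u

open CategoryTheory CategoryTheory.Limits AlgebraicGeometry Opposite AlgSp

set_option autoImplicit false
set_option linter.style.haveILetI false
set_option linter.unusedSectionVars false
set_option backward.isDefEq.respectTransparency false
set_option backward.isDefEq.respectTransparency.types false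

noncomputable section

namespace Groth.L09.LfpLift

open Groth.L23

variable {S : Scheme.{u}} {X Y Z : Sp S}

/-- Sections over a limit of affine schemes descend, relative to `f`. -/
def Lifts (f : X ⟶ Y) : Prop :=
  ∀ ⦃I : Type u⦄ [SmallCategory I] [IsCofiltered I] (D : I ⥤ Over S) (c : Cone D),
    IsLimit ((Over.forget S).mapCone c) → (∀ i, IsAffine (D.obj i).left) → IsAffine c.pt.left →
    ∀ (x : (yon S).obj c.pt ⟶ X) (i : I) (y : (yon S).obj (D.obj i) ⟶ Y),
      x ≫ f = (yon S).map (c.π.app i) ≫ y →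
      ∃ (j : I) (t : j ⟶ i) (xj : (yon S).obj (D.obj j) ⟶ X),
        (yon S).map (c.π.app j) ≫ xj = x ∧ xj ≫ f = (yon S).map (D.map t) ≫ y

/-- Sections which agree over a limit of affine schemes agree at a stage, relative to `f`. -/
def Seps (f : X ⟶ Y) : Prop :=
  ∀ ⦃I : Type u⦄ [SmallCategory I] [IsCofiltered I] (D : I ⥤ Over S) (c : Cone D),
    IsLimit ((Over.forget S).mapCone c) → (∀ i, IsAffine (D.obj i).left) → IsAffine c.pt.left →
    ∀ (i : I) (x x' : (yon S).obj (D.obj i) ⟶ X), x ≫ f = x' ≫ f →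
      (yon S).map (c.π.app i) ≫ x = (yon S).map (c.π.app i) ≫ x' →
      ∃ (j : I) (t : j ⟶ i), (yon S).map (D.map t) ≫ x = (yon S).map (D.map t) ≫ x'

theorem map_w {I : Type u} [SmallCategory I] {D : I ⥤ Over S} (c : Cone D) {i j : I} (t : j ⟶ i) {F : Sp S}
    (x : (yon S).obj (D.obj i) ⟶ F) :
    (yon S).map (c.π.app j) ≫ (yon S).map (D.map t) ≫ x = (yon S).map (c.π.app i) ≫ x := by
  rw [← Functor.map_comp_assoc, c.w]

theorem map_map {I : Type u} [SmallCategory I] (D : I ⥤ Over S) {i j k : I} (s : k ⟶ j) (t : j ⟶ i) {F : Sp S}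
    (x : (yon S).obj (D.obj i) ⟶ F) :
    (yon S).map (D.map s) ≫ (yon S).map (D.map t) ≫ x = (yon S).map (D.map (s ≫ t)) ≫ x := by
  rw [← Functor.map_comp_assoc, ← D.map_comp]

theorem Lifts.comp {f : X ⟶ Y} {g : Y ⟶ Z} (hf : Lifts f) (hg : Lifts g) : Lifts (f ≫ g) := by
  intro I _ _ D c hc hD hpt x i y e
  obtain ⟨j, t, yj, h₁, h₂⟩ := hg D c hc hD hpt (x ≫ f) i y (by rw [Category.assoc]; exact e)
  obtain ⟨k, s, xk, h₃, h₄⟩ := hf D c hc hD hpt x j yj h₁.symm
  exact ⟨k, s ≫ t, xk, h₃, by rw [← Category.assoc, h₄, Category.assoc, h₂, map_map]⟩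

theorem Seps.comp {f : X ⟶ Y} {g : Y ⟶ Z} (hf : Seps f) (hg : Seps g) : Seps (f ≫ g) := by
  intro I _ _ D c hc hD hpt i x x' e hp
  obtain ⟨j, t, h⟩ := hg D c hc hD hpt i (x ≫ f) (x' ≫ f) (by simpa using e) (by rw [reassoc_of% hp])
  obtain ⟨k, s, h'⟩ := hf D c hc hD hpt j ((yon S).map (D.map t) ≫ x) ((yon S).map (D.map t) ≫ x')
    (by simpa using h) (by rw [map_w, map_w, hp])
  exact ⟨k, s ≫ t, by rwa [map_map, map_map] at h'⟩

theorem Lifts.of_comp {f : X ⟶ Y} {g : Y ⟶ Z} (hfg : Lifts (f ≫ g)) (hg : Seps g) : Lifts f := by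
  intro I _ _ D c hc hD hpt x i y e
  obtain ⟨j, t, xj, h₁, h₂⟩ := hfg D c hc hD hpt x i (y ≫ g) (by rw [reassoc_of% e])
  obtain ⟨k, s, h⟩ := hg D c hc hD hpt j (xj ≫ f) ((yon S).map (D.map t) ≫ y) (by simpa using h₂)
    (by rw [reassoc_of% h₁, map_w, e])
  refine ⟨k, s ≫ t, (yon S).map (D.map s) ≫ xj, by rw [map_w, h₁], ?_⟩
  rw [Category.assoc, h, map_map]

/-- The system over a stage. -/
def stageSys {I : Type u} [SmallCategory I] (D : I ⥤ Over S) (i : I) :
    (Over.forget i ⋙ D ⋙ Over.forget S) ⟶ (Functor.const (Over i)).obj (D.obj i).left where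
  app k := (D.map k.hom).left
  naturality k l f := by
    show (D.map f.left).left ≫ (D.map l.hom).left = (D.map k.hom).left ≫ 𝟙 _
    rw [← Over.comp_left, ← D.map_comp, Over.w f, Category.comp_id]

theorem lifts_of_repWith {f : X ⟶ Y} (hf : RepWith @LocallyOfFinitePresentation f) : Lifts f := by
  intro I _ _ D c hc hD hpt x i y e
  let W := hf.1.pullback y
  let q : W ⟶ D.obj i := hf.1.snd y
  have sq := hf.1.isPullback y
  haveI : LocallyOfFinitePresentation q.left := repWith_prop hf sq
  obtain ⟨s, hs⟩ := (yon S).map_surjective (sq.lift x ((yon S).map (c.π.app i)) e)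
  have hsq : s ≫ q = c.π.app i := (yon S).map_injective (by rw [Functor.map_comp, hs]; exact sq.lift_snd _ _ _)
  let E := Over.forget i ⋙ D ⋙ Over.forget S
  haveI : ∀ k, IsAffine (E.obj k) := fun k => hD k.left
  haveI : ∀ {k l : Over i} (φ : k ⟶ l), IsAffineHom (E.map φ) := fun φ => isAffineHom_of_isAffine _
  let cE : Cone E := ((Over.forget S).mapCone c).whisker (Over.forget i)
  obtain ⟨k, g, hg, hgf⟩ := Scheme.exists_π_app_comp_eq_of_locallyOfFinitePresentation E (stageSys D i) q.left cE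
    ((Functor.Initial.isLimitWhiskerEquiv (Over.forget i) _).symm hc) s.left (by
      ext1; ext1 k
      show (c.π.app k.left).left ≫ (D.map k.hom).left = s.left ≫ q.left
      rw [← Over.comp_left, ← Over.comp_left, c.w, hsq])
  let g' : D.obj k.left ⟶ W := Over.homMk g (by
    rw [← Over.w q, ← Category.assoc, hgf]
    exact Over.w (D.map k.hom))
  have hgq : g' ≫ q = D.map k.hom := Over.OverMorphism.ext hgf
  refine ⟨k.left, k.hom, (yon S).map g' ≫ hf.1.fst y, ?_, ?_⟩
  · rw [← Functor.map_comp_assoc, show c.π.app k.left ≫ g' = s from Over.OverMorphism.ext hg, hs]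
    exact sq.lift_fst _ _ _
  · rw [Category.assoc, sq.w, ← Functor.map_comp_assoc, hgq]

theorem seps_of_repWith {f : X ⟶ Y} (hf : RepWith @LocallyOfFiniteType f) : Seps f := by
  intro I _ _ D c hc hD hpt i x x' e hp
  have sq := hf.1.isPullback (x ≫ f)
  let q : hf.1.pullback (x ≫ f) ⟶ D.obj i := hf.1.snd (x ≫ f)
  haveI : LocallyOfFiniteType q.left := repWith_prop hf sq
  obtain ⟨a, ha⟩ := (yon S).map_surjective (sq.lift x ((yon S).map (𝟙 _)) (by simp))
  obtain ⟨a', ha'⟩ := (yon S).map_surjective (sq.lift x' ((yon S).map (𝟙 _)) (by simp [e]))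
  have haq : a ≫ q = 𝟙 _ := (yon S).map_injective (by rw [Functor.map_comp, ha]; exact sq.lift_snd _ _ _)
  have haq' : a' ≫ q = 𝟙 _ := (yon S).map_injective (by rw [Functor.map_comp, ha']; exact sq.lift_snd _ _ _)
  have haa : c.π.app i ≫ a = c.π.app i ≫ a' := by
    refine (yon S).map_injective (sq.hom_ext ?_ ?_)
    · rw [Functor.map_comp, Functor.map_comp, Category.assoc, Category.assoc, ha, ha', IsPullback.lift_fst,
        IsPullback.lift_fst, hp]
    · show (yon S).map (c.π.app i ≫ a) ≫ (yon S).map q = (yon S).map (c.π.app i ≫ a') ≫ (yon S).map q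
      rw [← Functor.map_comp, ← Functor.map_comp, Category.assoc, Category.assoc, haq, haq']
  let E := Over.forget i ⋙ D ⋙ Over.forget S
  haveI : ∀ k, IsAffine (E.obj k) := fun k => hD k.left
  haveI : ∀ {k l : Over i} (φ : k ⟶ l), IsAffineHom (E.map φ) := fun φ => isAffineHom_of_isAffine _
  let cE : Cone E := ((Over.forget S).mapCone c).whisker (Over.forget i)
  have ht : (D.map (𝟙 i)).left = 𝟙 _ := by simp
  obtain ⟨k, φ, hk⟩ := Scheme.exists_hom_comp_eq_comp_of_locallyOfFiniteType E (stageSys D i) q.left cE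
    ((Functor.Initial.isLimitWhiskerEquiv (Over.forget i) _).symm hc) (i := Over.mk (𝟙 i)) a.left a'.left
    (ht.trans (congrArg CommaMorphism.left haq).symm) (ht.trans (congrArg CommaMorphism.left haq').symm)
    (congrArg CommaMorphism.left haa)
  refine ⟨k.left, φ.left, ?_⟩
  have h := congrArg (yon S).map (show D.map φ.left ≫ a = D.map φ.left ≫ a' from Over.OverMorphism.ext hk)
  rw [Functor.map_comp, Functor.map_comp, ha, ha'] at h
  have h' := congrArg (· ≫ hf.1.fst (x ≫ f)) h
  rwa [Category.assoc, Category.assoc, IsPullback.lift_fst, IsPullback.lift_fst] at h'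

theorem lifts_yon {U V : Over S} (h : U ⟶ V) [LocallyOfFinitePresentation h.left] : Lifts ((yon S).map h) :=
  lifts_of_repWith ((repWith_yon_map_iff _ _).2 inferInstance)

theorem seps_yon {U V : Over S} (h : U ⟶ V) [LocallyOfFiniteType h.left] : Seps ((yon S).map h) :=
  seps_of_repWith ((repWith_yon_map_iff _ _).2 inferInstance)

theorem lifts_etale {f : X ⟶ Y} (hf : RepWith @Etale f) : Lifts f :=
  lifts_of_repWith (repWith_mono (fun φ (_ : Etale φ) => inferInstanceAs (LocallyOfFinitePresentation φ)) hf)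

theorem seps_etale {f : X ⟶ Y} (hf : RepWith @Etale f) : Seps f :=
  seps_of_repWith (repWith_mono (fun φ (_ : Etale φ) => inferInstanceAs (LocallyOfFiniteType φ)) hf)

open Groth.L19.Approx in
/-- The criterion for affine schemes. -/
theorem lfp_of_lifts_affine {U V : Over S} [IsAffine U.left] [IsAffine V.left] (h : U ⟶ V)
    (hh : Lifts ((yon S).map h)) : LocallyOfFinitePresentation h.left := by
  let Pr : MorphismProperty Scheme.{u} := ⊤
  haveI : Pr.RespectsIso := inferInstanceAs ((⊤ : MorphismProperty Scheme.{u}).RespectsIso)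
  have hPr : Cofinal h.left Pr := fun g j _ _ _ => ⟨⊥, fgOn_bot ⊤, bot_le, trivial⟩
  haveI := nonempty_idx hPr
  haveI := isDirected_idx hPr
  obtain ⟨hlim⟩ := nonempty_isLimit_cone h.left Pr hPr
  let D := system h.left Pr ⋙ Over.map V.hom
  let c₀ : Cone D := (Over.map V.hom).mapCone (cone h.left Pr)
  haveI : IsConnected (Idx h.left Pr)ᵒᵖ := IsCofiltered.isConnected _
  have hc : IsLimit ((Over.forget S).mapCone c₀) := isLimitOfPreserves (Over.forget V.left) hlim
  have hD : ∀ i, IsAffine (D.obj i).left := fun i => by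
    haveI := isAffineHom_system_hom h.left Pr i
    exact isAffine_of_isAffineHom ((system h.left Pr).obj i).hom
  obtain ⟨i⟩ : Nonempty (Idx h.left Pr)ᵒᵖ := inferInstance
  let y : D.obj i ⟶ V := Over.homMk ((system h.left Pr).obj i).hom rfl
  let e : c₀.pt ⟶ U := Over.homMk (𝟙 _) (by
    show 𝟙 _ ≫ U.hom = h.left ≫ V.hom
    rw [Category.id_comp, Over.w h])
  obtain ⟨j, t, xj, hxj, hxjy⟩ := hh D c₀ hc hD ‹IsAffine U.left› ((yon S).map e) i ((yon S).map y) (by
    rw [← Functor.map_comp, ← Functor.map_comp]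
    congr 1
    ext
    show 𝟙 _ ≫ h.left = ((cone h.left Pr).π.app i).left ≫ ((system h.left Pr).obj i).hom
    rw [Category.id_comp, Over.w ((cone h.left Pr).π.app i)]; rfl)
  obtain ⟨r, rfl⟩ := (yon S).map_surjective xj
  have hr₁ : ((cone h.left Pr).π.app j).left ≫ r.left = 𝟙 _ :=
    congrArg CommaMorphism.left ((yon S).map_injective ((Functor.map_comp _ _ _).trans hxj))
  have hr₂ : r.left ≫ h.left = ((system h.left Pr).obj j).hom :=
    (congrArg CommaMorphism.left ((yon S).map_injective ((Functor.map_comp _ _ _).trans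
      (hxjy.trans (Functor.map_comp _ _ _).symm)))).trans (Over.w ((system h.left Pr).map t))
  let q := ((system h.left Pr).obj j).hom
  haveI : LocallyOfFinitePresentation q := lfp_system_hom h.left Pr j
  let π : U.left ⟶ ((system h.left Pr).obj j).left := ((cone h.left Pr).π.app j).left
  have hπq : π ≫ q = h.left := Over.w ((cone h.left Pr).π.app j)
  let ε : ((system h.left Pr).obj j).left ⟶ pullback q q :=
    pullback.lift (r.left ≫ π) (𝟙 _) (by rw [Category.assoc, hπq, hr₂, Category.id_comp])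
  have hr₁' : π ≫ r.left = 𝟙 _ := hr₁
  have sq : IsPullback π π (pullback.diagonal q) ε := by
    refine IsPullback.mk' (pullback.hom_ext ?_ ?_) (fun T a b h₁ h₂ => ?_) fun T a b hab => ?_
    · simp [ε, reassoc_of% hr₁']
    · simp [ε]
    · have := h₁ =≫ r.left
      simpa [hr₁'] using this
    · have h₁ := hab =≫ pullback.fst q q
      have h₂ := hab =≫ pullback.snd q q
      simp [ε] at h₁ h₂
      subst h₂
      exact ⟨a ≫ r.left, by rw [Category.assoc]; exact h₁.symm, by rw [Category.assoc]; exact h₁.symm⟩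
  haveI : LocallyOfFinitePresentation (pullback.diagonal q) :=
    lfp_of_comp_lft _ (pullback.fst q q) (by rw [pullback.diagonal_fst]; infer_instance)
  haveI : LocallyOfFinitePresentation π := MorphismProperty.of_isPullback sq inferInstance
  show LocallyOfFinitePresentation h.left
  rw [← hπq]
  infer_instance

theorem lfp_of_lifts {U V : Over S} (h : U ⟶ V) (hh : Lifts ((yon S).map h)) :
    LocallyOfFinitePresentation h.left := by
  rw [IsZariskiLocalAtTarget.iff_of_iSup_eq_top (P := @LocallyOfFinitePresentation) _ (iSup_affineOpens_eq_top _)]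
  intro B
  haveI : IsAffine B.1.toScheme := B.2
  rw [IsZariskiLocalAtSource.iff_of_iSup_eq_top (P := @LocallyOfFinitePresentation) _ (iSup_affineOpens_eq_top _)]
  intro A
  haveI : IsAffine A.1.toScheme := A.2
  let k : A.1.toScheme ⟶ U.left := A.1.ι ≫ (h.left ⁻¹ᵁ B.1).ι
  let U' : Over S := Over.mk (k ≫ U.hom)
  let V' : Over S := Over.mk (B.1.ι ≫ V.hom)
  haveI : IsAffine U'.left := A.2
  haveI : IsAffine V'.left := B.2
  let ιU : U' ⟶ U := Over.homMk k
  let ιV : V' ⟶ V := Over.homMk B.1.ι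
  have hw : (A.1.ι ≫ (h.left ∣_ B.1)) ≫ B.1.ι = k ≫ h.left := by
    rw [Category.assoc, morphismRestrict_ι, Category.assoc]
  let h' : U' ⟶ V' := Over.homMk (A.1.ι ≫ (h.left ∣_ B.1)) (by
    show _ ≫ B.1.ι ≫ V.hom = k ≫ U.hom
    rw [← Category.assoc, hw, Category.assoc, Over.w h])
  have hw' : h' ≫ ιV = ιU ≫ h := Over.OverMorphism.ext hw
  haveI : IsOpenImmersion ιV.left := inferInstanceAs (IsOpenImmersion B.1.ι)
  haveI : IsOpenImmersion ιU.left := inferInstanceAs (IsOpenImmersion k)
  refine lfp_of_lifts_affine h' (Lifts.of_comp ?_ (seps_yon ιV))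
  rw [← Functor.map_comp, hw', Functor.map_comp]
  exact (lifts_yon ιU).comp hh

/-- The criterion for spaces. -/
theorem locP_lfp_of_lifts (hX : IsAlgSpace X) (hY : IsAlgSpace Y) {f : X ⟶ Y} (hf : Lifts f) :
    LocP @LocallyOfFinitePresentation f := by
  intro U V a b h ha hb w
  refine lfp_of_lifts h (Lifts.of_comp ?_ (seps_etale hb))
  rw [← w]
  exact (lifts_etale ha).comp hf

end Groth.L09.LfpLift
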