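import Groth.Agent.L09.LfpLift.Space
import Groth.Agent.L23.RelLim

/-!
# Locally of finite presentation means limit preserving
-/

universe u

open CategoryTheory CategoryTheory.Limits AlgebraicGeometry Opposite AlgSp

set_option autoImplicit false
set_option linter.style.haveILetI false
set_option backward.isDefEq.respectTransparency false
set_option backward.isDefEq.respectTransparency.types false

noncomputable section

namespace Groth.L09.LfpLift

open Groth.L23

variable {S : Scheme.{u}} {X Y : Sp S}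

theorem equiv_comp {F G : Sp S} {T : Over S} (x : (yon S).obj T ⟶ F) (f : F ⟶ G) :
    (AlgSp.J S).uliftYonedaEquiv (x ≫ f) = f.hom.app _ ((AlgSp.J S).uliftYonedaEquiv x) :=
  GrothendieckTopology.uliftYonedaEquiv_comp _ x f

theorem equiv_map {F : Sp S} {T T' : Over S} (φ : T' ⟶ T) (x : (yon S).obj T ⟶ F) :
    (AlgSp.J S).uliftYonedaEquiv ((yon S).map φ ≫ x) = F.obj.map φ.op ((AlgSp.J S).uliftYonedaEquiv x) :=
  ((AlgSp.J S).uliftYonedaEquiv_naturality x φ).symm

theorem lifts_iff {f : X ⟶ Y} : Lifts f ↔ RLim.Lifts f.hom := by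
  constructor
  · intro h I _ _ D c hc hD hpt i g x e
    obtain ⟨j, t, xj, h₁, h₂⟩ := h D c hc hD hpt ((AlgSp.J S).uliftYonedaEquiv.symm x) i
      ((AlgSp.J S).uliftYonedaEquiv.symm g)
      ((AlgSp.J S).uliftYonedaEquiv.injective (by
        rw [equiv_comp, equiv_map, Equiv.apply_symm_apply, Equiv.apply_symm_apply]; exact e))
    refine ⟨j, t, (AlgSp.J S).uliftYonedaEquiv xj, ?_, ?_⟩
    · rw [← equiv_comp, h₂, equiv_map, Equiv.apply_symm_apply]
    · rw [← equiv_map, h₁]
      exact Equiv.apply_symm_apply _ _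
  · intro h I _ _ D c hc hD hpt x i y e
    obtain ⟨j, t, xj, h₁, h₂⟩ := h D c hc hD hpt i ((AlgSp.J S).uliftYonedaEquiv y)
      ((AlgSp.J S).uliftYonedaEquiv x) (by rw [← equiv_comp, e, equiv_map]; rfl)
    refine ⟨j, t, (AlgSp.J S).uliftYonedaEquiv.symm xj, (AlgSp.J S).uliftYonedaEquiv.injective ?_,
      (AlgSp.J S).uliftYonedaEquiv.injective ?_⟩
    · rw [equiv_map, Equiv.apply_symm_apply]; exact h₂
    · rw [equiv_comp, Equiv.apply_symm_apply, equiv_map]; exact h₁

theorem rlimSeps_of_seps {f : X ⟶ Y} (h : Seps f) : RLim.Seps f.hom := by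
  intro I _ _ D c hc hD hpt i x x' e hp
  obtain ⟨j, t, h'⟩ := h D c hc hD hpt i ((AlgSp.J S).uliftYonedaEquiv.symm x) ((AlgSp.J S).uliftYonedaEquiv.symm x')
    ((AlgSp.J S).uliftYonedaEquiv.injective (by
      rw [equiv_comp, equiv_comp, Equiv.apply_symm_apply, Equiv.apply_symm_apply]; exact e))
    ((AlgSp.J S).uliftYonedaEquiv.injective (by
      rw [equiv_map, equiv_map, Equiv.apply_symm_apply, Equiv.apply_symm_apply]; exact hp))
  refine ⟨j, t, ?_⟩
  have := congrArg (AlgSp.J S).uliftYonedaEquiv h'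
  rwa [equiv_map, equiv_map, Equiv.apply_symm_apply, Equiv.apply_symm_apply] at this

theorem locP_lfp_iff (hX : IsAlgSpace X) (hY : IsAlgSpace Y) (f : X ⟶ Y) :
    LocP @LocallyOfFinitePresentation f ↔ IsRelLimitPreserving f.hom := by
  refine ⟨fun h => RLim.isRelLimitPreserving_of (lifts_iff.1 (lifts_of_locP hX hY h))
    (rlimSeps_of_seps (seps_of_locP hX hY
      (locP_mono (fun φ (_ : LocallyOfFinitePresentation φ) => inferInstanceAs (LocallyOfFiniteType φ)) h))), fun h => ?_⟩
  exact locP_lfp_of_lifts hX hY (lifts_iff.2 (RLim.of_isRelLimitPreserving h).1)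

end Groth.L09.LfpLift
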