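import Groth.Agent.L09.LfpLift.Basic
import Groth.Agent.L09.SpLimit.PbSys
import Groth.Agent.L09.SpLimit.EtModel
import Groth.Agent.L09.SpLimit.Model
import Groth.Agent.L23.DiagLfp

/-!
# Morphisms of spaces locally of finite presentation preserve limits
-/

universe u

open CategoryTheory CategoryTheory.Limits AlgebraicGeometry Opposite AlgSp

set_option autoImplicit false
set_option linter.style.haveILetI false
set_option linter.unusedSectionVars false
set_option backward.isDefEq.respectTransparency false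
set_option backward.isDefEq.respectTransparency.types false

noncomputable section

namespace Groth.L09.LfpLift

open Groth.L23 Groth.L09.SpLimit

variable {S : Scheme.{u}} {X Y : Sp S}

/-- An affine etale covering of a limit of affine schemes comes from a stage. -/
theorem exists_stage_cover {I : Type u} [SmallCategory I] [IsCofiltered I] (D : I ⥤ Over S) (c : Cone D)
    (hc : IsLimit ((Over.forget S).mapCone c)) (hD : ∀ i, IsAffine (D.obj i).left) (hpt : IsAffine c.pt.left)
    (i : I) {T' : Over S} [IsAffine T'.left] (ε : T' ⟶ c.pt) [Etale ε.left] [Surjective ε.left] :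
    ∃ (j : I) (_ : j ⟶ i) (A : Over S) (q : A ⟶ D.obj j) (l : T' ⟶ A),
      IsAffineHom q.left ∧ Etale q.left ∧ Surjective q.left ∧ IsPullback l ε q (c.π.app j) := by
  haveI := hpt
  obtain ⟨Z, V, v, t, w, hZa, hVa, hve, hvs, hZ, -, sqw⟩ := exists_etale_model ε.left
  haveI := hZa; haveI := hVa; haveI := hve; haveI := hvs; haveI := hZ
  let E := D ⋙ Over.forget S
  haveI : ∀ j, IsAffine (E.obj j) := hD
  haveI : ∀ {j k : I} (φ : j ⟶ k), IsAffineHom (E.map φ) := fun φ => isAffineHom_of_isAffine _
  let τ : E ⟶ (Functor.const I).obj (Spec (.of (ULift.{u} ℤ))) :=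
    { app := fun j => specULiftZIsTerminal.from _
      naturality := fun _ _ _ => specULiftZIsTerminal.hom_ext _ _ }
  obtain ⟨j₀, g₀, hg₀, -⟩ := Scheme.exists_π_app_comp_eq_of_locallyOfFinitePresentation E τ
    (specULiftZIsTerminal.from Z) ((Over.forget S).mapCone c) hc t
    (by ext1; ext1 j; exact specULiftZIsTerminal.hom_ext _ _)
  let j := IsCofiltered.min j₀ i
  let G : D.obj j ⟶ bz S Z := toBz ((D.map (IsCofiltered.minToLeft j₀ i)).left ≫ g₀)
  let w' : T' ⟶ bz S V := toBz w
  have hG : c.π.app j ≫ G = toBz t := bz_ext (by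
    rw [Over.comp_left, Category.assoc, toBz_fst, toBz_fst, ← Category.assoc, ← Over.comp_left, c.w]
    exact hg₀)
  have sqw' : IsPullback w' ε (bzMap v) (toBz t) := by
    have wl : w' ≫ bzMap v = ε ≫ toBz t := bz_ext (by
      rw [Over.comp_left, Over.comp_left, Category.assoc, Category.assoc, toBz_fst, ← (bzMap_sq v).w,
        ← Category.assoc, toBz_fst, sqw.w])
    refine IsPullback.of_map (Over.forget S) wl ?_
    refine IsPullback.of_right ?_ (congrArg CommaMorphism.left wl) (bzMap_sq v)
    show IsPullback (w'.left ≫ bzFst S V) ε.left v ((toBz t).left ≫ bzFst S Z)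
    rw [toBz_fst, toBz_fst]
    exact sqw
  let A := pullback (bzMap (S := S) v) G
  let q : A ⟶ D.obj j := pullback.snd _ _
  have sqA := IsPullback.of_hasPullback (bzMap (S := S) v) G
  have sqAs : IsPullback _ q.left (bzMap (S := S) v).left G.left := sqA.map (Over.forget S)
  let l : T' ⟶ A := sqA.lift w' (ε ≫ c.π.app j) (by rw [Category.assoc, hG]; exact sqw'.w)
  refine ⟨j, IsCofiltered.minToRight _ _, A, q, l, ?_, ?_, ?_, ?_⟩
  · exact MorphismProperty.of_isPullback sqAs
      (MorphismProperty.of_isPullback (P := @IsAffineHom) (bzMap_sq v) (isAffineHom_of_isAffine v))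
  · exact MorphismProperty.of_isPullback sqAs (MorphismProperty.of_isPullback (P := @Etale) (bzMap_sq v) hve)
  · exact MorphismProperty.of_isPullback sqAs (MorphismProperty.of_isPullback (P := @Surjective) (bzMap_sq v) hvs)
  · refine IsPullback.of_right ?_ (sqA.lift_snd _ _ _) sqA
    rw [sqA.lift_fst, hG]
    exact sqw'

theorem seps_of_locP (hX : IsAlgSpace X) (hY : IsAlgSpace Y) {f : X ⟶ Y}
    (hf : LocP @LocallyOfFiniteType f) : Seps f := by
  intro I _ _ D c hc hD hpt i x x' e hp
  have hP := isAlgSpace_of_isPullback hY.diag hX hX (IsPullback.of_hasPullback f f)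
  have hδ : RepWith @LocallyOfFinitePresentation (pullback.diagonal f) :=
    repWith_of_locP etLocal_lfp hP (diagonal_properties hX f).1 (locP_lfp_diagonal_of_lft hX hY hf)
  obtain ⟨j, t, xj, -, hxj⟩ := lifts_of_repWith hδ D c hc hD hpt ((yon S).map (c.π.app i) ≫ x) i
    (pullback.lift x x' e) (by
      apply pullback.hom_ext
      · simp
      · simp [hp])
  refine ⟨j, t, ?_⟩
  have h₁ := hxj =≫ pullback.fst f f
  have h₂ := hxj =≫ pullback.snd f f
  simp only [Category.assoc, pullback.diagonal_fst, pullback.diagonal_snd, Category.comp_id, pullback.lift_fst,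
    pullback.lift_snd] at h₁ h₂
  rw [← h₁, h₂]

theorem lifts_of_locP (hX : IsAlgSpace X) (hY : IsAlgSpace Y) {f : X ⟶ Y}
    (hf : LocP @LocallyOfFinitePresentation f) : Lifts f := by
  intro I _ _ D c hc hD hpt x i y e
  haveI := hpt
  have hseps : Seps f :=
    seps_of_locP hX hY (locP_mono (fun φ (_ : LocallyOfFinitePresentation φ) => inferInstanceAs (LocallyOfFiniteType φ)) hf)
  -- charts
  obtain ⟨V, b, hb, hbs⟩ := hY.atlas
  obtain ⟨T₁, e₀, m, hT₁, he₀, he₀s, hm⟩ := exists_affine_refine (Z := c.pt) hb hbs ((yon S).map (c.π.app i) ≫ y)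
  haveI := hT₁; haveI := he₀; haveI := he₀s
  have sqfb := IsPullback.of_hasPullback f b
  have hP := isAlgSpace_of_isPullback hY.diag hX (IsAlgSpace.yon_obj V) sqfb
  obtain ⟨U, r, hr, hrs⟩ := hP.atlas
  obtain ⟨h, hh⟩ := (yon S).map_surjective (r ≫ pullback.snd f b)
  let a := r ≫ pullback.fst f b
  have ha : RepWith @Etale a := repWith_comp hr (repWith_of_isPullback sqfb.flip hb)
  have wa : a ≫ f = (yon S).map h ≫ b := by rw [hh, Category.assoc, Category.assoc, pullback.condition]
  haveI : LocallyOfFinitePresentation h.left := hf a b h ha hb wa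
  obtain ⟨T'', ε, n, hT'', hε, hεs, hn⟩ := exists_affine_refine hr hrs
    (sqfb.lift ((yon S).map e₀ ≫ x) ((yon S).map m) (by rw [Category.assoc, e, hm]))
  haveI := hT''; haveI := hε; haveI := hεs
  let χ := ε ≫ e₀
  haveI : Etale χ.left := inferInstanceAs (Etale (ε.left ≫ e₀.left))
  haveI : Surjective χ.left := inferInstanceAs (Surjective (ε.left ≫ e₀.left))
  have hnx : (yon S).map n ≫ a = (yon S).map χ ≫ x := by
    rw [reassoc_of% hn, IsPullback.lift_fst, Functor.map_comp, Category.assoc]
  have hlaf : Lifts (a ≫ f) := by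
    rw [wa]; exact (lifts_yon h).comp (lifts_etale hb)
  -- the system of coverings
  obtain ⟨j, t, A, q, l, hqa, hqe, hqs, sq⟩ := exists_stage_cover D c hc hD hpt i χ
  haveI : IsConnected (Over j) := IsCofiltered.isConnected _
  haveI : IsConnected I := IsCofiltered.isConnected _
  haveI : IsAffine (((Functor.const I).obj c.pt).obj j).left := hpt
  haveI : ∀ k : Over j, IsAffine ((Over.forget j ⋙ D).obj k).left := fun k => hD k.left
  let D' := Over.forget j ⋙ D
  let t' : D' ⟶ (Functor.const (Over j)).obj (D.obj j) :=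
    { app := fun k => D.map k.hom
      naturality := fun k k' φ => by
        show D.map φ.left ≫ D.map k'.hom = D.map k.hom ≫ 𝟙 _
        rw [← D.map_comp, Over.w φ, Category.comp_id] }
  let c' : Cone D' := c.whisker (Over.forget j)
  have hcO : IsLimit c := isLimitOfReflects (Over.forget S)
    (hc : IsLimit ((Over.forget S).mapCone c))
  have hc' : IsLimit c' := (Functor.Initial.isLimitWhiskerEquiv (Over.forget j) c).symm hcO
  have hg' : ∀ k, c'.π.app k ≫ t'.app k = c.π.app j := fun k => c.w k.hom
  let F := pbSys t' q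
  let cF := pbCone t' q c' (c.π.app j) hg'
  have hcF : IsLimit ((Over.forget S).mapCone cF) :=
    isLimitOfPreserves (Over.forget S) (isLimitPbCone t' q hc' (c.π.app j) hg')
  have haffq : ∀ {B : Over S} (g : B ⟶ D.obj j), IsAffineHom (pullback.snd q g).left := fun g =>
    MorphismProperty.of_isPullback ((IsPullback.of_hasPullback q g).map (Over.forget S)) hqa
  have hFaff : ∀ k, IsAffine (F.obj k).left := fun k => by
    haveI := haffq (t'.app k)
    haveI := hD k.left
    exact isAffine_of_isAffineHom (pullback.snd q (t'.app k)).left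
  haveI hcFa : IsAffine cF.pt.left := by
    haveI := haffq (c.π.app j)
    exact isAffine_of_isAffineHom (pullback.snd q (c.π.app j)).left
  let θ := sq.isoPullback
  have hθ : θ.inv ≫ χ = pullback.snd q (c.π.app j) := sq.isoPullback_inv_snd
  have hπF : ∀ k, cF.π.app k ≫ pullback.snd q (t'.app k) = pullback.snd q (c.π.app j) ≫ c.π.app k.left :=
    fun k => pullback.lift_snd _ _ _
  let yk : ∀ k : Over j, (yon S).obj (F.obj k) ⟶ Y := fun k =>
    (yon S).map (pullback.snd q (t'.app k) ≫ D.map (k.hom ≫ t)) ≫ y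
  have hyk : ∀ {k k' : Over j} (φ : k ⟶ k'), (yon S).map (F.map φ) ≫ yk k' = yk k := fun {k k'} φ => by
    simp only [yk, F]
    rw [← Functor.map_comp_assoc, reassoc_of% (isPullback_pbSys t' q φ).w]
    show (yon S).map (_ ≫ D.map φ.left ≫ _) ≫ y = _
    rw [← D.map_comp, ← Category.assoc φ.left, Over.w φ]
  let top : Over j := Over.mk (𝟙 j)
  obtain ⟨k, s, nk, hnk, hnkf⟩ := hlaf F cF hcF hFaff hcFa ((yon S).map (θ.inv ≫ n)) top (yk top) (by
    simp only [yk]
    rw [← Functor.map_comp_assoc (yon S) (cF.π.app top), reassoc_of% hπF top, c.w]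
    rw [Functor.map_comp, Category.assoc, reassoc_of% hnx, e, ← Functor.map_comp_assoc, ← Functor.map_comp_assoc, hθ])
  let z := nk ≫ a
  have hzf : z ≫ f = yk k := by rw [Category.assoc, hnkf, hyk]
  have hz : (yon S).map (cF.π.app k) ≫ z = (yon S).map (pullback.snd q (c.π.app j)) ≫ x := by
    rw [reassoc_of% hnk, ← hθ, Functor.map_comp, Functor.map_comp, Category.assoc, Category.assoc, hnx]
  -- the overlaps
  let q₂ := pullback.fst q q ≫ q
  let F₂ := pbSys t' q₂
  let cF₂ := pbCone t' q₂ c' (c.π.app j) hg'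
  have hcF₂ : IsLimit ((Over.forget S).mapCone cF₂) :=
    isLimitOfPreserves (Over.forget S) (isLimitPbCone t' q₂ hc' (c.π.app j) hg')
  have hq₂ : IsAffineHom q₂.left := by
    haveI : IsAffineHom (pullback.fst q q).left :=
      MorphismProperty.of_isPullback ((IsPullback.of_hasPullback q q).flip.map (Over.forget S)) hqa
    haveI := hqa
    exact inferInstanceAs (IsAffineHom ((pullback.fst q q).left ≫ q.left))
  have haff₂ : ∀ {B : Over S} (g : B ⟶ D.obj j), IsAffineHom (pullback.snd q₂ g).left := fun g =>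
    MorphismProperty.of_isPullback ((IsPullback.of_hasPullback q₂ g).map (Over.forget S)) hq₂
  have hF₂aff : ∀ k, IsAffine (F₂.obj k).left := fun k => by
    haveI := haff₂ (t'.app k)
    haveI := hD k.left
    exact isAffine_of_isAffineHom (pullback.snd q₂ (t'.app k)).left
  haveI hcF₂a : IsAffine cF₂.pt.left := by
    haveI := haff₂ (c.π.app j)
    exact isAffine_of_isAffineHom (pullback.snd q₂ (c.π.app j)).left
  let pr : ∀ (p : pullback q q ⟶ A), p ≫ q = q₂ → ∀ {B : Over S} (g : B ⟶ D.obj j), pullback q₂ g ⟶ pullback q g :=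
    fun p hp {B} g => pullback.map _ _ _ _ p (𝟙 B) (𝟙 _) (by rw [hp, Category.comp_id]) (by simp)
  have hp₂ : pullback.snd q q ≫ q = q₂ := pullback.condition.symm
  let p₁ := fun k : Over j => pr (pullback.fst q q) rfl (t'.app k)
  let p₂ := fun k : Over j => pr (pullback.snd q q) hp₂ (t'.app k)
  have hprn : ∀ (p : pullback q q ⟶ A) (hp : p ≫ q = q₂) {k k' : Over j} (φ : k ⟶ k'),
      F₂.map φ ≫ pr p hp (t'.app k') = pr p hp (t'.app k) ≫ F.map φ := fun p hp {k k'} φ => by
    apply pullback.hom_ext <;> simp [pr, F, F₂, pbSys]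
  have hprs : ∀ (p : pullback q q ⟶ A) (hp : p ≫ q = q₂) {B : Over S} (g : B ⟶ D.obj j),
      pr p hp g ≫ pullback.snd q g = pullback.snd q₂ g := fun p hp {B} g => by simp [pr]
  have hprπ : ∀ (p : pullback q q ⟶ A) (hp : p ≫ q = q₂),
      cF₂.π.app k ≫ pr p hp (t'.app k) = pr p hp (c.π.app j) ≫ cF.π.app k := fun p hp => by
    apply pullback.hom_ext <;> simp [pr, cF, cF₂, pbCone]
  obtain ⟨k', s', hs'⟩ := hseps F₂ cF₂ hcF₂ hF₂aff hcF₂a k ((yon S).map (p₁ k) ≫ z) ((yon S).map (p₂ k) ≫ z)
    (by
      simp only [Category.assoc, hzf, yk, ← Functor.map_comp_assoc]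
      simp only [p₁, p₂, ← Category.assoc, hprs])
    (by
      simp only [p₁, p₂, ← Functor.map_comp_assoc, hprπ]
      simp only [Functor.map_comp, Category.assoc, hz]
      simp only [← Functor.map_comp_assoc, hprs])
  let z' := (yon S).map (F.map s') ≫ z
  have hz' : (yon S).map (p₁ k') ≫ z' = (yon S).map (p₂ k') ≫ z' := by
    simp only [z', p₁, p₂, ← Functor.map_comp_assoc, ← hprn]
    simp only [Functor.map_comp, Category.assoc]
    exact hs'
  -- descent
  let qk := pullback.snd q (t'.app k')
  have sqk : IsPullback (p₁ k') (p₂ k') qk qk := by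
    refine IsPullback.mk' (by simp only [p₁, p₂, qk, hprs]) (fun B u v h₁ h₂ => ?_) fun B u v huv => ?_
    · apply pullback.hom_ext
      · apply pullback.hom_ext
        · simpa [p₁, pr] using h₁ =≫ pullback.fst q (t'.app k')
        · simpa [p₂, pr] using h₂ =≫ pullback.fst q (t'.app k')
      · simpa [p₁, pr] using h₁ =≫ pullback.snd q (t'.app k')
    · refine ⟨pullback.lift (pullback.lift (u ≫ pullback.fst q _) (v ≫ pullback.fst q _) ?_) (u ≫ qk) ?_, ?_, ?_⟩
      · simp only [Category.assoc, pullback.condition]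
        simpa [qk, Category.assoc] using huv =≫ t'.app k'
      · simp [q₂, qk, pullback.condition]
        try simpa [qk] using (huv =≫ t'.app k').symm
      · apply pullback.hom_ext <;> simp [p₁, pr, qk]
      · apply pullback.hom_ext <;> simp [p₂, pr, qk]
        exact huv
  have hqk := (IsPullback.of_hasPullback q (t'.app k')).map (Over.forget S)
  haveI : Epi ((yon S).map qk) := epi_of_repWith _
    ((repWith_yon_map_iff _ _).2 (MorphismProperty.of_isPullback (P := @Etale) hqk hqe))
    ((repWith_yon_map_iff _ _).2 (MorphismProperty.of_isPullback (P := @Surjective) hqk hqs))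
  obtain ⟨hcol⟩ := nonempty_isColimit_cofork ((yon S).map qk) (sqk.map (yon S))
  obtain ⟨xk, hxk⟩ : ∃ xk : (yon S).obj (D.obj k'.left) ⟶ X, (yon S).map qk ≫ xk = z' :=
    ⟨_, (Cofork.IsColimit.desc' hcol z' hz').2⟩
  refine ⟨k'.left, k'.hom ≫ t, xk, ?_, ?_⟩
  · have hql := (IsPullback.of_hasPullback q (c.π.app j)).map (Over.forget S)
    haveI : Epi ((yon S).map (pullback.snd q (c.π.app j))) := epi_of_repWith _
      ((repWith_yon_map_iff _ _).2 (MorphismProperty.of_isPullback (P := @Etale) hql hqe))
      ((repWith_yon_map_iff _ _).2 (MorphismProperty.of_isPullback (P := @Surjective) hql hqs))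
    rw [← cancel_epi ((yon S).map (pullback.snd q (c.π.app j))), ← Functor.map_comp_assoc, ← hπF k',
      Functor.map_comp, Category.assoc, hxk, ← hz]
    simp only [z', ← Functor.map_comp_assoc]
    exact congrArg (fun m => (yon S).map m ≫ z) (cF.w s')
  · rw [← cancel_epi ((yon S).map qk), reassoc_of% hxk]
    show ((yon S).map (F.map s') ≫ z) ≫ f = _
    rw [Category.assoc, hzf, hyk]
    simp only [yk, qk, Functor.map_comp, Category.assoc]

end Groth.L09.LfpLift
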