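import Groth.Agent.L09.LfpLift.Space
import Groth.Agent.L09.SpLimit.Affine
import Mathlib.CategoryTheory.Limits.Types.Filtered
import Mathlib.CategoryTheory.Limits.Types.Pullbacks

/-!
# Maps from limits of spaces to spaces locally of finite presentation
-/

universe u

open CategoryTheory CategoryTheory.Limits AlgebraicGeometry Opposite AlgSp

set_option autoImplicit false
set_option linter.style.haveILetI false
set_option linter.unusedSectionVars false
set_option backward.isDefEq.respectTransparency false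
set_option backward.isDefEq.respectTransparency.types false

noncomputable section

namespace Groth.L09.LfpLift

open Groth.L23 Groth.L09.SpLimit

variable {S : Scheme.{u}} {I : Type u} [SmallCategory I] [IsCofiltered I] {D : I ⥤ Sp S} {c : Cone D} {X Y : Sp S}

/-- A covering of the self products of the charts of a system by a second system. -/
theorem exists_pairs [QuasiSeparatedSpace S] {i₀ : I} (hD : IsAlgSpace (D.obj i₀))
    (hDa : ∀ (i j : I) (φ : i ⟶ j), IsAffineMor (D.map φ)) (hqs : IsQuasiSeparatedSp (D.obj i₀)) (hc : IsLimit c)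
    {U : Over S} [IsAffine U.left] {u : (yon S).obj U ⟶ D.obj i₀} (s : Sys D c u) :
    ∃ (R : Over S) (a : (yon S).obj R ⟶ D.obj i₀) (s' : Sys D c a) (m₁ m₂ : ∀ j, s'.W.obj j ⟶ s.W.obj j),
      (∀ j, IsAffine (s'.W.obj j).left) ∧
      (∀ j, (yon S).map (m₁ j) ≫ s.fj j = s'.fj j) ∧ (∀ j, (yon S).map (m₂ j) ≫ s.fj j = s'.fj j) ∧
      (∀ {j k : Over i₀} (f : j ⟶ k), m₁ j ≫ s.W.map f = s'.W.map f ≫ m₁ k) ∧
      (∀ {j k : Over i₀} (f : j ⟶ k), m₂ j ≫ s.W.map f = s'.W.map f ≫ m₂ k) ∧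
      (∀ j, ∃ m : (yon S).obj s'.cone.pt ⟶ (yon S).obj s.cone.pt, m ≫ s.l = s'.l ∧
        m ≫ (yon S).map (s.cone.π.app j) = (yon S).map (s'.cone.π.app j ≫ m₁ j)) ∧
      (∀ j, ∃ m : (yon S).obj s'.cone.pt ⟶ (yon S).obj s.cone.pt, m ≫ s.l = s'.l ∧
        m ≫ (yon S).map (s.cone.π.app j) = (yon S).map (s'.cone.π.app j ≫ m₂ j)) ∧
      ∀ k (h : (yon S).map (m₁ k) ≫ s.fj k = (yon S).map (m₂ k) ≫ s.fj k),
        Epi (pullback.lift ((yon S).map (m₁ k)) ((yon S).map (m₂ k)) h) := by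
  have hP2 := isAlgSpace_of_isPullback hD.diag (IsAlgSpace.yon_obj U) (IsAlgSpace.yon_obj U)
    (IsPullback.of_hasPullback u u)
  have hP2qc : IsQuasiCompactSp (pullback u u) :=
    qcMor_of_qc_source (IsAlgSpace.yon_obj U) hD isQuasiCompactSp_of_compactSpace hqs u
      (IsAlgSpace.yon_obj U) isQuasiCompactSp_of_compactSpace u _ _ (IsPullback.of_hasPullback u u)
  obtain ⟨R, r, hR, hr, hrs⟩ := Qs.exists_affine_atlas hP2 hP2qc
  haveI := hR
  obtain ⟨s'⟩ := exists_sys hDa hc (r ≫ pullback.fst u u ≫ u)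
  have mk : ∀ (x : (yon S).obj R ⟶ (yon S).obj U), x ≫ u = r ≫ pullback.fst u u ≫ u →
      ∃ m : ∀ j, s'.W.obj j ⟶ s.W.obj j, (∀ j, (yon S).map (m j) ≫ s.fj j = s'.fj j) ∧
        (∀ j, (yon S).map (m j ≫ s.p j) = (yon S).map (s'.p j) ≫ x) ∧
        (∀ {j k : Over i₀} (f : j ⟶ k), m j ≫ s.W.map f = s'.W.map f ≫ m k) ∧
        ∀ j, ∃ mI : (yon S).obj s'.cone.pt ⟶ (yon S).obj s.cone.pt, mI ≫ s.l = s'.l ∧
          mI ≫ (yon S).map (s.cone.π.app j) = (yon S).map (s'.cone.π.app j ≫ m j) := by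
    intro x hx
    choose m hm using fun j => (yon S).map_surjective
      ((s.sq j).lift (s'.fj j) ((yon S).map (s'.p j) ≫ x) (by rw [Category.assoc, hx]; exact (s'.sq j).w))
    have h : ∀ j, (yon S).map (m j) ≫ s.fj j = s'.fj j := fun j => by rw [hm, IsPullback.lift_fst]
    have h' : ∀ j, (yon S).map (m j ≫ s.p j) = (yon S).map (s'.p j) ≫ x := fun j => by
      rw [Functor.map_comp, hm, IsPullback.lift_snd]
    refine ⟨m, h, h', fun {j k} f => (yon S).map_injective ((s.sq k).hom_ext ?_ ?_), fun j => ?_⟩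
    · rw [Functor.map_comp, Functor.map_comp, Category.assoc, Category.assoc, s.map_fj, h, reassoc_of% h, s'.map_fj]
    · rw [← Functor.map_comp, ← Functor.map_comp, Category.assoc, Category.assoc, s.map_p, h', Functor.map_comp, h',
        ← Functor.map_comp_assoc, s'.map_p]
    · refine ⟨s.sql.lift s'.l ((yon S).map s'.q ≫ x) (by rw [Category.assoc, hx]; exact s'.sql.w),
        IsPullback.lift_fst _ _ _ _, (s.sq j).hom_ext ?_ ?_⟩
      · rw [Category.assoc, ← s.hl, IsPullback.lift_fst_assoc, Functor.map_comp, Category.assoc, h, s'.hl]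
      · rw [Category.assoc, ← Functor.map_comp, s.hq, IsPullback.lift_snd, ← Functor.map_comp, Category.assoc,
          Functor.map_comp, h', ← Functor.map_comp_assoc, s'.hq]
  obtain ⟨m₁, hm₁, hm₁', hn₁, hl₁⟩ := mk (r ≫ pullback.fst u u) (Category.assoc _ _ _)
  obtain ⟨m₂, hm₂, hm₂', hn₂, hl₂⟩ := mk (r ≫ pullback.snd u u) (by rw [Category.assoc, pullback.condition])
  refine ⟨R, _, s', m₁, m₂, s'.aff, hm₁, hm₂, hn₁, hn₂, hl₁, hl₂, fun k h => ?_⟩
  let fk := s.fj k
  let mP : pullback fk fk ⟶ pullback u u := pullback.lift (pullback.fst fk fk ≫ (yon S).map (s.p k))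
    (pullback.snd fk fk ≫ (yon S).map (s.p k)) (by
      rw [Category.assoc, Category.assoc, ← (s.sq k).w, ← Category.assoc, pullback.condition, Category.assoc])
  have sqP : IsPullback (pullback.fst fk fk ≫ fk) mP (D.map k.hom) (pullback.fst u u ≫ u) := by
    refine IsPullback.paste_horiz ?_ (s.sq k)
    refine (IsPullback.of_right ?_ (pullback.lift_fst _ _ _) (IsPullback.of_hasPullback u u).flip).flip
    rw [pullback.lift_snd, ← (s.sq k).w]
    exact (IsPullback.of_hasPullback fk fk).flip.paste_horiz (s.sq k).flip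
  let κ : (yon S).obj (s'.W.obj k) ⟶ pullback fk fk :=
    pullback.lift ((yon S).map (m₁ k)) ((yon S).map (m₂ k)) h
  have sqκ : IsPullback κ ((yon S).map (s'.p k)) mP r := by
    refine IsPullback.of_right ?_ ?_ sqP
    · rw [pullback.lift_fst_assoc, hm₁]
      exact s'.sq k
    · apply pullback.hom_ext
      · rw [Category.assoc, pullback.lift_fst, pullback.lift_fst_assoc, Category.assoc, ← Functor.map_comp, hm₁']
      · rw [Category.assoc, pullback.lift_snd, pullback.lift_snd_assoc, Category.assoc, ← Functor.map_comp, hm₂']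
  exact epi_of_repWith _ (repWith_of_isPullback sqκ.flip hr) (repWith_of_isPullback sqκ.flip hrs)

theorem seps_system (hDa : ∀ (i j : I) (φ : i ⟶ j), IsAffineMor (D.map φ)) (hc : IsLimit c) (i : I)
    (hD : IsAlgSpace (D.obj i)) (hqc : IsQuasiCompactSp (D.obj i)) {f : X ⟶ Y} (hf : Seps f)
    (x x' : D.obj i ⟶ X) (e : x ≫ f = x' ≫ f) (hp : c.π.app i ≫ x = c.π.app i ≫ x') :
    ∃ (j : I) (t : j ⟶ i), D.map t ≫ x = D.map t ≫ x' := by
  obtain ⟨U, u, hU, hu, hus⟩ := Qs.exists_affine_atlas hD hqc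
  haveI := hU
  obtain ⟨s⟩ := exists_sys hDa hc u
  let top : Over i := Over.mk (𝟙 i)
  haveI : IsAffine s.cone.pt.left :=
    haveI : ∀ j, IsAffine ((s.W ⋙ Over.forget S).obj j) := s.aff
    Scheme.isAffine_of_isLimit _ s.isLimit
  obtain ⟨j, t, hj⟩ := hf s.W s.cone s.isLimit s.aff inferInstance top (s.fj top ≫ x) (s.fj top ≫ x')
    (by simp [e]) (by
      rw [← reassoc_of% (s.hl top), ← reassoc_of% (s.hl top)]
      show s.l ≫ c.π.app i ≫ x = s.l ≫ c.π.app i ≫ x'
      rw [hp])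
  refine ⟨j.left, t.left, ?_⟩
  haveI : Epi (s.fj j) := epi_of_repWith _ (repWith_of_isPullback (s.sq j).flip hu)
    (repWith_of_isPullback (s.sq j).flip hus)
  rwa [reassoc_of% s.map_fj t, reassoc_of% s.map_fj t, cancel_epi] at hj

theorem lifts_system [QuasiSeparatedSpace S] (hDa : ∀ (i j : I) (φ : i ⟶ j), IsAffineMor (D.map φ)) (hc : IsLimit c)
    (i : I) (hD : IsAlgSpace (D.obj i)) (hqc : IsQuasiCompactSp (D.obj i)) (hqs : IsQuasiSeparatedSp (D.obj i))
    {f : X ⟶ Y} (hl : Lifts f) (hf : Seps f) (x : c.pt ⟶ X) (y : D.obj i ⟶ Y) (e : x ≫ f = c.π.app i ≫ y) :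
    ∃ (j : I) (t : j ⟶ i) (xj : D.obj j ⟶ X), c.π.app j ≫ xj = x ∧ xj ≫ f = D.map t ≫ y := by
  obtain ⟨U, u, hU, hu, hus⟩ := Qs.exists_affine_atlas hD hqc
  haveI := hU
  obtain ⟨s⟩ := exists_sys hDa hc u
  let top : Over i := Over.mk (𝟙 i)
  haveI : IsAffine s.cone.pt.left :=
    haveI : ∀ j, IsAffine ((s.W ⋙ Over.forget S).obj j) := s.aff
    Scheme.isAffine_of_isLimit _ s.isLimit
  obtain ⟨k, t, z, hz, hzf⟩ := hl s.W s.cone s.isLimit s.aff inferInstance (s.l ≫ x) top (s.fj top ≫ y) (by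
    rw [Category.assoc, e, ← reassoc_of% (s.hl top)]; rfl)
  rw [reassoc_of% s.map_fj t] at hzf
  obtain ⟨R, a, s', m₁, m₂, haff', hm₁, hm₂, hn₁, hn₂, hl₁, hl₂, hκ⟩ := exists_pairs hD hDa hqs hc s
  haveI : IsAffine s'.cone.pt.left :=
    haveI : ∀ j, IsAffine ((s'.W ⋙ Over.forget S).obj j) := haff'
    Scheme.isAffine_of_isLimit _ s'.isLimit
  obtain ⟨l, φ, hlφ⟩ := hf s'.W s'.cone s'.isLimit haff' inferInstance k ((yon S).map (m₁ k) ≫ z)
    ((yon S).map (m₂ k) ≫ z) (by rw [Category.assoc, Category.assoc, hzf, reassoc_of% hm₁, reassoc_of% hm₂]) (by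
      obtain ⟨μ₁, hμ₁, hμ₁'⟩ := hl₁ k
      obtain ⟨μ₂, hμ₂, hμ₂'⟩ := hl₂ k
      rw [← Functor.map_comp_assoc, ← Functor.map_comp_assoc, ← hμ₁', ← hμ₂', Category.assoc, Category.assoc, hz,
        reassoc_of% hμ₁, reassoc_of% hμ₂])
  let zl := (yon S).map (s.W.map φ) ≫ z
  have hfl := repWith_of_isPullback (s.sq l).flip hu
  have hfls := repWith_of_isPullback (s.sq l).flip hus
  haveI : Epi (s.fj l) := epi_of_repWith _ hfl hfls
  obtain ⟨hcol⟩ := nonempty_isColimit_cofork (s.fj l) (IsPullback.of_hasPullback (s.fj l) (s.fj l))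
  obtain ⟨xl, hxl⟩ : ∃ xl : D.obj l.left ⟶ X, s.fj l ≫ xl = zl := by
    refine ⟨_, (Cofork.IsColimit.desc' hcol zl ?_).2⟩
    haveI := hκ l ((hm₁ l).trans (hm₂ l).symm)
    rw [← cancel_epi (pullback.lift ((yon S).map (m₁ l)) ((yon S).map (m₂ l)) ((hm₁ l).trans (hm₂ l).symm)),
      pullback.lift_fst_assoc, pullback.lift_snd_assoc, ← Functor.map_comp_assoc, ← Functor.map_comp_assoc,
      hn₁, hn₂, Functor.map_comp, Functor.map_comp, Category.assoc, Category.assoc, hlφ]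
  refine ⟨l.left, l.hom, xl, ?_, ?_⟩
  · haveI : Epi s.l := epi_of_repWith _ (repWith_of_isPullback s.sql.flip hu) (repWith_of_isPullback s.sql.flip hus)
    rw [← cancel_epi s.l, reassoc_of% (s.hl l), hxl, ← hz, ← Functor.map_comp_assoc, s.cone.w]
  · rw [← cancel_epi (s.fj l), reassoc_of% hxl, Category.assoc, hzf, reassoc_of% s.map_fj φ,
      ← D.map_comp_assoc, ← Over.w (φ ≫ t)]
    simp [top]

theorem locP_lfp_iff_isPullback [QuasiSeparatedSpace S] {X Y : Space S} (f : X ⟶ Y) :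
    LocP @LocallyOfFinitePresentation f.hom ↔
      ∀ ⦃I : Type u⦄ [SmallCategory I] [IsCofiltered I] (D : I ⥤ Sp S),
        (∀ i, IsAlgSpace (D.obj i)) → (∀ (i j : I) (φ : i ⟶ j), IsAffineMor (D.map φ)) →
        (∀ i, IsQuasiCompactSp (D.obj i)) → (∀ i, IsQuasiSeparatedSp (D.obj i)) →
        ∀ (c : Cone D) (_ : IsLimit c),
          IsPullback (colimMap (Functor.whiskerLeft D.op (yoneda.map f.hom)))
            (colimit.desc (D.op ⋙ yoneda.obj X.obj) ((yoneda.obj X.obj).mapCocone c.op))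
            (colimit.desc (D.op ⋙ yoneda.obj Y.obj) ((yoneda.obj Y.obj).mapCocone c.op))
            ((yoneda.map f.hom).app (op c.pt)) := by
  constructor
  · intro h I _ _ D hD hDa hqc hqs c hc
    have hl := lifts_of_locP X.property Y.property h
    have hs := seps_of_locP X.property Y.property
      (locP_mono (fun φ (_ : LocallyOfFinitePresentation φ) => inferInstanceAs (LocallyOfFiniteType φ)) h)
    have e₁ : ∀ (i : Iᵒᵖ) (x : D.obj i.unop ⟶ X.obj),
        colimMap (Functor.whiskerLeft D.op (yoneda.map f.hom)) (colimit.ι (D.op ⋙ yoneda.obj X.obj) i x) =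
          colimit.ι (D.op ⋙ yoneda.obj Y.obj) i (x ≫ f.hom) := fun i x =>
      ConcreteCategory.congr_hom (ι_colimMap (Functor.whiskerLeft D.op (yoneda.map f.hom)) i) x
    have e₂ : ∀ (P : Sp S) (i : Iᵒᵖ) (x : D.obj i.unop ⟶ P),
        colimit.desc (D.op ⋙ yoneda.obj P) ((yoneda.obj P).mapCocone c.op) (colimit.ι (D.op ⋙ yoneda.obj P) i x) =
          c.π.app i.unop ≫ x :=
      fun P i x => ConcreteCategory.congr_hom (colimit.ι_desc ((yoneda.obj P).mapCocone c.op) i) x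
    rw [Types.isPullback_iff]
    refine ⟨?_, ?_, ?_⟩
    · apply colimit.hom_ext
      intro i
      rw [ι_colimMap_assoc, colimit.ι_desc, colimit.ι_desc_assoc]
      exact ((yoneda.map f.hom).naturality (c.π.app i.unop).op).symm
    · rintro ξ η ⟨hξ, hη⟩
      obtain ⟨i, x, rfl⟩ := Types.jointly_surjective' ξ
      obtain ⟨j, y, rfl⟩ := Types.jointly_surjective' η
      rw [e₁, e₁] at hξ
      rw [e₂, e₂] at hη
      obtain ⟨k, g, g', hk⟩ := (Types.FilteredColimit.colimit_eq_iff _).1 hξ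
      have hk' : (D.map g.unop ≫ x) ≫ f.hom = (D.map g'.unop ≫ y) ≫ f.hom := by
        rw [Category.assoc, Category.assoc]; exact hk
      obtain ⟨l, t, hl'⟩ := seps_system hDa hc k.unop (hD _) (hqc _) hs _ _ hk'
        (by rw [c.w_assoc, c.w_assoc]; exact hη)
      refine (Types.FilteredColimit.colimit_eq_iff _).2 ⟨op l, g ≫ t.op, g' ≫ t.op, ?_⟩
      show D.map (t ≫ g.unop) ≫ x = D.map (t ≫ g'.unop) ≫ y
      rw [D.map_comp_assoc, D.map_comp_assoc, hl']
    · intro ξ x hx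
      obtain ⟨i, g, rfl⟩ := Types.jointly_surjective' ξ
      rw [e₂] at hx
      obtain ⟨j, t, xj, h₁, h₂⟩ := lifts_system hDa hc i.unop (hD _) (hqc _) (hqs _) hl hs x g hx.symm
      refine ⟨colimit.ι (D.op ⋙ yoneda.obj X.obj) (op j) xj, ?_, ?_⟩
      · rw [e₁]
        refine (Types.FilteredColimit.colimit_eq_iff _).2 ⟨op j, 𝟙 _, t.op, ?_⟩
        show D.map (𝟙 j) ≫ xj ≫ f.hom = D.map t ≫ g
        rw [D.map_id, Category.id_comp, h₂]
      · rw [e₂]; exact h₁
  · intro h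
    refine locP_lfp_of_lifts X.property Y.property fun I _ _ D c hc hD hpt x i y e => ?_
    haveI : IsConnected I := IsCofiltered.isConnected I
    have hq : ∀ i, IsQuasiCompactSp ((yon S).obj (D.obj i)) ∧ IsQuasiSeparatedSp ((yon S).obj (D.obj i)) :=
      fun i => haveI := hD i; Filtration.qcqs_of_affine (IsAlgSpace.yon_obj _) (Iso.refl _)
    obtain ⟨-, -, hsurj⟩ := (Types.isPullback_iff _ _ _ _).1 (h (D ⋙ yon S) (fun i => IsAlgSpace.yon_obj _)
      (fun i j φ => haveI := hD i; haveI := hD j;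
        isAffineMor_iff.2 ((repWith_yon_map_iff _ _).2 (isAffineHom_of_isAffine (D.map φ).left)))
      (fun i => (hq i).1) (fun i => (hq i).2) ((yon S).mapCone c)
      (isLimitOfPreserves (yon S) (isLimitOfReflects (Over.forget S) hc)))
    have e₂ : ∀ (P : Sp S) (i : Iᵒᵖ) (z : (yon S).obj (D.obj i.unop) ⟶ P),
        colimit.desc ((D ⋙ yon S).op ⋙ yoneda.obj P) ((yoneda.obj P).mapCocone ((yon S).mapCone c).op)
          (colimit.ι ((D ⋙ yon S).op ⋙ yoneda.obj P) i z) = (yon S).map (c.π.app i.unop) ≫ z :=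
      fun P i z => ConcreteCategory.congr_hom (colimit.ι_desc ((yoneda.obj P).mapCocone ((yon S).mapCone c).op) i) z
    obtain ⟨ξ, hξ₁, hξ₂⟩ := hsurj (colimit.ι ((D ⋙ yon S).op ⋙ yoneda.obj Y.obj) (op i) y) x
      ((e₂ _ _ _).trans e.symm)
    obtain ⟨j, xj, rfl⟩ := Types.jointly_surjective' ξ
    have e₁ := ConcreteCategory.congr_hom (ι_colimMap (Functor.whiskerLeft (D ⋙ yon S).op (yoneda.map f.hom)) j) xj
    obtain ⟨k, g, g', hk⟩ := (Types.FilteredColimit.colimit_eq_iff _).1 (e₁.symm.trans hξ₁)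
    refine ⟨k.unop, g'.unop, (yon S).map (D.map g.unop) ≫ xj, ?_, ?_⟩
    · rw [map_w]; exact (e₂ _ _ _).symm.trans hξ₂
    · rw [Category.assoc]; exact hk

end Groth.L09.LfpLift
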